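import Cfsg.Agent.H607.TW.Alg

/-!
# S3694: the frame of a conjugate, bounds (helper599)
-/

set_option autoImplicit false
set_option linter.unusedSectionVars false
set_option linter.style.haveILetI false

namespace Cfsg.Agent.H599.TW

open Subgroup Cfsg.Agent.H607.TW

universe u

variable {G : Type u} [Group G] {N A : Subgroup G} {F : Type} [Field F] {n : ℕ} {S : Type} [Group S]
  {ι : S →* Matrix.GeneralLinearGroup (Fin n) F} {π : S →* G}

/-- The frame of a conjugate of `A`. -/
theorem frame_conj [Finite F] (hM : Model N ι π) {t : ℕ} {e : Fin t → Matrix (Fin n) (Fin n) F} (h : Frame ι π A e) {g : G}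
    {τ : Matrix (Fin n) (Fin n) F ≃+ Matrix (Fin n) (Fin n) F} (hτ : Ind ι π g τ) :
    Frame ι π (A.map (MulAut.conj g).toMonoidHom) (fun i => τ (e i)) := by
  have hmul : (∀ x y, τ (x * y) = τ x * τ y) ∨ (∀ x y, τ (x * y) = τ y * τ x) := by
    rcases hτ with ⟨h1, _⟩ | ⟨h1, _⟩
    · exact Or.inl h1
    · exact Or.inr h1
  refine ⟨h.two, fun i => ?_, fun i hi => ?_, fun i j hij => ?_, ?_, ?_, ?_⟩
  · rcases hmul with h1 | h1 <;> rw [← h1, h.idem]
  · exact h.ne i (τ.injective (by rw [hi, map_zero]))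
  · rcases hmul with h1 | h1
    · rw [← h1, h.orth i j hij, map_zero]
    · rw [← h1, h.orth j i (Ne.symm hij), map_zero]
  · rw [← map_sum, h.sum, Ind.one' hτ]
  · rintro _ ⟨a, ha, rfl⟩ ρ hρ i
    have h1 : Ind ι π (g⁻¹ * (g * a * g⁻¹) * g) ((τ.trans ρ).trans τ.symm) := by
      have h2 := Ind.comp (Ind.comp (Ind.symm' hM hτ) hρ) hτ
      have h3 : (MulAut.conj g).toMonoidHom a = g * a * g⁻¹ := rfl
      rw [h3] at h2
      exact h2
    have h4 : g⁻¹ * (g * a * g⁻¹) * g = a := by group
    rw [h4] at h1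
    obtain ⟨j, hj⟩ := h.perm a ha _ h1 i
    refine ⟨j, ?_⟩
    rw [← hj]
    simp only [AddEquiv.trans_apply, AddEquiv.apply_symm_apply]
  · intro s hs
    have hsymm := Ind.symm' hM hτ
    have key : ∀ u : S, (∀ i, ∃ j, mt ι u * e i = e j * mt ι u) → (π u = g⁻¹ * π s * g ∨ (π u)⁻¹ = g⁻¹ * π s * g) →
        π s ∈ A.map (MulAut.conj g).toMonoidHom := by
      intro u hu hu'
      have hA := h.stab u hu
      rcases hu' with h5 | h5
      · refine ⟨π u, hA, ?_⟩
        change g * π u * g⁻¹ = π s
        rw [h5]; group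
      · refine ⟨(π u)⁻¹, A.inv_mem hA, ?_⟩
        change g * (π u)⁻¹ * g⁻¹ = π s
        rw [h5]; group
    rcases hsymm with ⟨m, h2⟩ | ⟨m, h2⟩
    · obtain ⟨u, hu1, hu2⟩ := h2 s
      rw [inv_inv] at hu2
      refine key u (fun i => ?_) (Or.inl hu2)
      obtain ⟨j, hj⟩ := hs i
      refine ⟨j, ?_⟩
      have h6 := congrArg τ.symm hj
      rw [m, m, AddEquiv.symm_apply_apply, AddEquiv.symm_apply_apply, ← hu1] at h6
      exact h6
    · obtain ⟨u, hu1, hu2⟩ := h2 s
      rw [inv_inv] at hu2
      refine key u ?_ (Or.inr hu2)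
      choose f hf using hs
      have h6 : ∀ i, e i * mt ι u = mt ι u * e (f i) := fun i => by
        have h7 := congrArg τ.symm (hf i)
        rw [m, m, AddEquiv.symm_apply_apply, AddEquiv.symm_apply_apply, ← hu1] at h7
        exact h7
      have hinj : Function.Injective f := by
        intro i j hij
        by_contra hne
        have h8 := h6 i
        rw [hij, ← h6 j] at h8
        have h9 : e i * mt ι u = 0 := by
          have h10 := congrArg (fun X => e i * X) h8
          simp only [← mul_assoc] at h10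
          rw [h.idem i, h.orth i j hne, zero_mul] at h10
          exact h10
        apply h.ne i
        have h11 : mt ι u * mt ι u⁻¹ = 1 := by
          rw [← H296.TW.mt_mul, mul_inv_cancel, H296.TW.mt_one]
        calc e i = e i * mt ι u * mt ι u⁻¹ := by rw [mul_assoc, h11, mul_one]
          _ = 0 := by rw [h9, zero_mul]
      have hsurj := Finite.surjective_of_injective hinj
      intro i
      obtain ⟨j, rfl⟩ := hsurj i
      exact ⟨j, (h6 j).symm⟩

end Cfsg.Agent.H599.TW
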