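import Cfsg.Agent.H599.TW.SizeSL
import Cfsg.Agent.H607.TW.Basic
import Cfsg.Agent.H982.TWModel

/-!
# S3694-T5: the imprimitive type, linear case (helper599)
-/

set_option autoImplicit false
set_option linter.unusedSectionVars false
set_option linter.style.haveILetI false

namespace Cfsg.Agent.H599.TW

open Subgroup Cfsg.Agent.H607.TW

universe u

variable {F : Type} [Field F] {n : ℕ}

local notation "MM" => Matrix (Fin n) (Fin n) F
local notation "GLL" => Matrix.GeneralLinearGroup (Fin n) F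
local notation "SLL" => Matrix.SpecialLinearGroup (Fin n) F

variable {t : ℕ} {G : Type u} [Group G] [Finite G] {N A C A₁ C₁ A₂ C₂ : Subgroup G} {r d : ℕ}

/-! ### Bounds -/

omit [Finite G] in
theorem card_stab [Fintype F] {π : SLL →* G} (hM : Model N (iSL n F) π) :
    Nat.card ↥(A ⊓ N) * Nat.card ↥π.ker = Nat.card {s : SLL // π s ∈ A} := by
  set K : Subgroup SLL := A.comap π with hK
  set f : ↥K →* G := π.comp K.subtype with hf
  have h1 : f.range = A ⊓ N := by
    ext g
    rw [MonoidHom.mem_range, Subgroup.mem_inf, ← hM.range]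
    constructor
    · rintro ⟨s, rfl⟩
      exact ⟨s.2, ⟨(s : SLL), rfl⟩⟩
    · rintro ⟨hA, ⟨s, rfl⟩⟩
      exact ⟨⟨s, hA⟩, rfl⟩
  have h2 : f.ker = π.ker.subgroupOf K := by
    ext s
    rw [MonoidHom.mem_ker, Subgroup.mem_subgroupOf, MonoidHom.mem_ker]
    rfl
  have hle : π.ker ≤ K := fun s hs => by
    rw [MonoidHom.mem_ker] at hs
    rw [hK, Subgroup.mem_comap, hs]
    exact A.one_mem
  have h3 : Nat.card ↥f.ker = Nat.card ↥π.ker := by
    rw [h2]
    exact Nat.card_congr (Subgroup.subgroupOfEquivOfLe hle).toEquiv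
  have h4 := Subgroup.card_mul_index f.ker
  rw [Subgroup.index_ker, h1, h3] at h4
  rw [mul_comm, h4]
  rfl

theorem card_le_stab [Fintype F] {π : SLL →* G} (hL : Loc N A r) (hM : Model N (iSL n F) π) :
    Nat.card ↥A ≤ Nat.card {s : SLL // π s ∈ A} * (2 * Nat.card (F ≃+* F)) := by
  have h1 := hL.card_le
  have h2 := Cfsg.Agent.H982.TWModel.index_sl hL.normal hL.cent hM
  calc Nat.card ↥A ≤ Nat.card ↥(A ⊓ N : Subgroup G) * N.index := h1
    _ ≤ Nat.card ↥(A ⊓ N : Subgroup G) * (2 * Nat.card (F ≃+* F) * Nat.card π.ker) := Nat.mul_le_mul_left _ h2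
    _ = (Nat.card ↥(A ⊓ N : Subgroup G) * Nat.card π.ker) * (2 * Nat.card (F ≃+* F)) := by ring
    _ = _ := by rw [card_stab hM]

theorem card_aut_le [Fintype F] : Nat.card (F ≃+* F) ≤ Fintype.card F := by
  classical
  obtain ⟨g, hg⟩ := IsCyclic.exists_generator (α := Fˣ)
  rw [← Nat.card_eq_fintype_card]
  refine Nat.card_le_card_of_injective (fun σ : F ≃+* F => σ g) fun σ τ h => ?_
  ext x
  by_cases hx : x = 0
  · rw [hx, map_zero, map_zero]
  · obtain ⟨k, hk⟩ := Subgroup.mem_zpowers_iff.mp (hg (Units.mk0 x hx))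
    have h1 : x = (g : F) ^ k := by
      have := congrArg (fun u : Fˣ => (u : F)) hk
      simp only [Units.val_zpow_eq_zpow_val, Units.val_mk0] at this
      exact this.symm
    have h2 : σ (g : F) = τ (g : F) := h
    rw [h1, map_zpow₀, map_zpow₀, h2]

theorem small_all [Fintype F] {π : SLL →* G} (h : Sit N A C A₁ C₁ A₂ C₂ r d) (hM : Model N (iSL n F) π) (hn : n ≤ 4)
    (hq : Fintype.card F ≤ 3) : Nat.card ↥A ≤ M d := by
  classical
  have h1 : Nat.card {s : SLL // π s ∈ A} ≤ 3 ^ 16 := by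
    have h2 : Nat.card {s : SLL // π s ∈ A} ≤ Nat.card MM :=
      Nat.card_le_card_of_injective (fun s => ((s : SLL) : MM)) (fun s s' hs => Subtype.ext (Subtype.ext hs))
    refine h2.trans ?_
    have h3 : Nat.card MM = Fintype.card F ^ (n * n) := by
      change Nat.card (Fin n → Fin n → F) = _
      rw [Nat.card_eq_fintype_card, Fintype.card_fun, Fintype.card_fun, Fintype.card_fin, ← pow_mul]
    rw [h3]
    calc Fintype.card F ^ (n * n) ≤ 3 ^ (n * n) := Nat.pow_le_pow_left hq _
      _ ≤ 3 ^ 16 := Nat.pow_le_pow_right (by norm_num) (by nlinarith)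
  refine h.card_le_of_five (m := 3 ^ 16 * (2 * 3)) ((card_le_stab h.locA hM).trans ?_) (by norm_num)
  exact Nat.mul_le_mul h1 (Nat.mul_le_mul_left _ (card_aut_le.trans hq))

theorem small_mon [Fintype F] {π : SLL →* G} (h : Sit N A C A₁ C₁ A₂ C₂ r d) (hM : Model N (iSL n F) π)
    (hA : Frame (iSL n F) π A (blk (id : Fin n → Fin n))) (hn : n ≤ 4) (hq : Fintype.card F ≤ 17) : Nat.card ↥A ≤ M d := by
  have h1 : Nat.card {s : SLL // π s ∈ A} ≤ 24 * 17 ^ 4 := by
    have h2 : Nat.card {s : SLL // π s ∈ A} ≤ Nat.card {s : SLL // IsMon (s : MM)} :=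
      Nat.card_le_card_of_injective (fun s => ⟨(s : SLL), fun k => perm_of_mem hA s.2 k⟩)
        (fun s s' hs => by
          apply Subtype.ext
          exact congrArg (fun x : {s : SLL // IsMon (s : MM)} => (x : SLL)) hs)
    refine h2.trans (card_isMon_le.trans ?_)
    refine Nat.mul_le_mul ?_ ?_
    · calc n.factorial ≤ Nat.factorial 4 := Nat.factorial_le hn
        _ = 24 := rfl
    · calc Fintype.card F ^ n ≤ 17 ^ n := Nat.pow_le_pow_left hq _
        _ ≤ 17 ^ 4 := Nat.pow_le_pow_right (by norm_num) hn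
  refine h.card_le_of_five (m := 24 * 17 ^ 4 * (2 * 17)) ((card_le_stab h.locA hM).trans ?_) (by norm_num)
  exact Nat.mul_le_mul h1 (Nat.mul_le_mul_left _ (card_aut_le.trans hq))

/-! ### The frame of the conjugate -/

theorem tauP_blk (B : GLL) (σ : F ≃+* F) (b : Fin n → Fin t) (i : Fin t) : tauP B σ (blk b i) = cM B (blk b i) := by
  rw [tauP_apply, blk_map, cM_apply]

theorem tauM_blk (B : GLL) (σ : F ≃+* F) (b : Fin n → Fin t) (i : Fin t) : tauM B σ (blk b i) = cM B (blk b i) := by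
  rw [tauM_eq, blk_transpose, tauP_blk]

theorem frame_C [Fintype F] {π : SLL →* G} (h : Sit N A C A₁ C₁ A₂ C₂ r d) (hM : Model N (iSL n F) π) {b : Fin n → Fin t}
    (hA : Frame (iSL n F) π A (blk b)) : ∃ B : GLL, Frame (iSL n F) π C (fun i => cM B (blk b i)) := by
  obtain ⟨g, rfl⟩ := h.conj
  obtain ⟨B, σ, h1 | h1⟩ := hM.lift g
  · refine ⟨B, ?_⟩
    have := frame_conj hM hA h1
    simpa only [tauP_blk] using this
  · refine ⟨B, ?_⟩
    have := frame_conj hM hA h1
    simpa only [tauM_blk] using this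

/-! ### Frames of points -/

theorem frame_points [Fintype F] {π : SLL →* G} (h : Sit N A C A₁ C₁ A₂ C₂ r d) (hr : ¬ r ∣ Fintype.card F) (hn : 3 ≤ n)
    (hM : Model N (iSL n F) π) (hA : Frame (iSL n F) π A (blk (id : Fin n → Fin n))) : Nat.card ↥A ≤ M d := by
  by_cases hbig : 5 ≤ n ∨ 18 ≤ Fintype.card F
  · exfalso
    by_cases h2 : A₂ ⊓ N = ⊥
    · have := no_cent hM h.locA hA hn hr h.A₂_OO_A h.A₂_ne h.A₂_norm h2
      omega
    · obtain ⟨B, hC⟩ := frame_C h hM hA
      exact one_main (symm h) hM B hA hC hn hbig h2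
  · exact small_mon h hM hA (by omega) (by omega)

/-! ### Frames of planes -/

theorem exists_E {b : Fin n → Fin t} (h : ∀ i, Fintype.card {k : Fin n // b k = i} = 2) :
    ∃ E : Fin t × Fin 2 ≃ Fin n, ∀ k, b k = (E.symm k).1 := by
  classical
  let f : ∀ i, {k : Fin n // b k = i} ≃ Fin 2 := fun i => Fintype.equivOfCardEq (by rw [h i, Fintype.card_fin])
  let E' : Fin n ≃ Fin t × Fin 2 :=
    (Equiv.sigmaFiberEquiv b).symm.trans ((Equiv.sigmaCongrRight f).trans (Equiv.sigmaEquivProd (Fin t) (Fin 2)))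
  exact ⟨E'.symm, fun k => rfl⟩

theorem frame_planes [Fintype F] {π : SLL →* G} (h : Sit N A C A₁ C₁ A₂ C₂ r d) (hr : ¬ r ∣ Fintype.card F)
    (hM : Model N (iSL n F) π) (E : Fin t × Fin 2 ≃ Fin n) (hA : Frame (iSL n F) π A (bl E)) (hq : Fintype.card F ≤ 3) :
    Nat.card ↥A ≤ M d := by
  by_cases ht : 3 ≤ t
  · exfalso
    by_cases h2 : A₂ ⊓ N = ⊥
    · exact no_cent_bl hM h.locA hA ht hq hr h.A₂_OO_A h.A₂_ne h.A₂_norm h2
    · obtain ⟨B, hC⟩ := frame_C h hM hA
      exact two_main (symm h) hM B (E := E) (E' := E) hA hC hq hr h2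
  · refine small_all h hM ?_ hq
    have := Fintype.card_congr E
    rw [Fintype.card_prod, Fintype.card_fin, Fintype.card_fin, Fintype.card_fin] at this
    omega

/-! ### Blocks of different sizes -/

theorem CP_iff [Fintype F] {e : MM} {τ : MM ≃+ MM} (hmul : (∀ x y, τ (x * y) = τ x * τ y) ∨ (∀ x y, τ (x * y) = τ y * τ x)) :
    CP (τ e) ↔ CP e := by
  refine ⟨fun h => ?_, CP_map hmul⟩
  have h1 : (∀ x y, τ.symm (x * y) = τ.symm x * τ.symm y) ∨ (∀ x y, τ.symm (x * y) = τ.symm y * τ.symm x) := by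
    rcases hmul with m | m
    · left; intro x y
      apply τ.injective
      rw [m, AddEquiv.apply_symm_apply, AddEquiv.apply_symm_apply, AddEquiv.apply_symm_apply]
    · right; intro x y
      apply τ.injective
      rw [m, AddEquiv.apply_symm_apply, AddEquiv.apply_symm_apply, AddEquiv.apply_symm_apply]
  have := CP_map h1 h
  rwa [AddEquiv.symm_apply_apply] at this

theorem blk_comp {t' : ℕ} (b : Fin n → Fin t) (φ : Fin t → Fin t') (c : Fin t') :
    (blk (φ ∘ b) c : MM) = ∑ i ∈ Finset.univ.filter (fun i => φ i = c), blk b i := by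
  classical
  ext k l
  rw [Matrix.sum_apply]
  simp only [blk_apply]
  by_cases hkl : k = l
  · subst hkl
    simp only [if_true, Function.comp_apply]
    rw [Finset.sum_ite_eq]
    simp
  · simp [hkl]

theorem frame_mixed [Fintype F] {π : SLL →* G} (h : Sit N A C A₁ C₁ A₂ C₂ r d)
    (hM : Model N (iSL n F) π) {b : Fin n → Fin t} (hA : Frame (iSL n F) π A (blk b))
    {i₀ i₁ : Fin t} (h0 : Fintype.card {k : Fin n // b k = i₀} = 1) (h1 : Fintype.card {k : Fin n // b k = i₁} = 2)
    (hq : Fintype.card F ≤ 3) : Nat.card ↥A ≤ M d := by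
  classical
  refine small_all h hM ?_ hq
  let φ : Fin t → Fin 2 := fun i => if Fintype.card {k : Fin n // b k = i} ≤ 1 then 0 else 1
  have hφ0 : φ i₀ = 0 := by simp only [φ]; rw [h0]; rfl
  have hφ1 : φ i₁ = 1 := by simp only [φ]; rw [h1]; rfl
  have hperm2 : ∀ a ∈ A, ∀ τ, Ind (iSL n F) π a τ → ∀ c, ∃ c', τ (blk (φ ∘ b) c) = blk (φ ∘ b) c' := by
    intro a ha τ hτ c
    have hmul : (∀ x y, τ (x * y) = τ x * τ y) ∨ (∀ x y, τ (x * y) = τ y * τ x) := by
      rcases hτ with ⟨h1, _⟩ | ⟨h1, _⟩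
      · exact Or.inl h1
      · exact Or.inr h1
    choose f hf using fun i => hA.perm a ha τ hτ i
    have hinj : Function.Injective f := by
      intro i j hij
      by_contra hne
      have h3 : (blk b i : MM) = blk b j := τ.injective (by rw [hf, hf, hij])
      apply hA.ne i
      rw [← hA.idem i]
      nth_rewrite 2 [h3]
      exact hA.orth i j hne
    have hbij : Function.Bijective f := Finite.injective_iff_bijective.mp hinj
    have hφf : ∀ i, φ (f i) = φ i := fun i => by
      have h3 := CP_iff (e := blk b i) hmul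
      rw [hf, CP_blk, CP_blk] at h3
      simp only [φ]
      by_cases h4 : Fintype.card {k : Fin n // b k = i} ≤ 1
      · rw [if_pos h4, if_pos (h3.mpr h4)]
      · rw [if_neg h4, if_neg (fun hh => h4 (h3.mp hh))]
    refine ⟨c, ?_⟩
    rw [blk_comp, map_sum]
    refine Finset.sum_bij (fun i _ => f i) ?_ ?_ ?_ ?_
    · intro i hi
      rw [Finset.mem_filter] at hi ⊢
      exact ⟨Finset.mem_univ _, by rw [hφf, hi.2]⟩
    · intro i _ j _ hij
      exact hinj hij
    · intro j hj
      obtain ⟨i, rfl⟩ := hbij.2 j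
      rw [Finset.mem_filter, hφf] at hj
      exact ⟨i, by rw [Finset.mem_filter]; exact ⟨Finset.mem_univ _, hj.2⟩, rfl⟩
    · intro i _
      exact hf i
  have hk0 : ∃ k, (φ ∘ b) k = 0 := by
    have : 0 < Fintype.card {k : Fin n // b k = i₀} := by omega
    obtain ⟨⟨k, hk⟩⟩ := Fintype.card_pos_iff.mp this
    exact ⟨k, by rw [Function.comp_apply, hk, hφ0]⟩
  have hk1 : ∃ k, (φ ∘ b) k = 1 := by
    have : 0 < Fintype.card {k : Fin n // b k = i₁} := by omega
    obtain ⟨⟨k, hk⟩⟩ := Fintype.card_pos_iff.mp this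
    exact ⟨k, by rw [Function.comp_apply, hk, hφ1]⟩
  have s0 := size_le h.locA hM hperm2 hk0 (by obtain ⟨k, hk⟩ := hk1; exact ⟨k, by rw [hk]; decide⟩)
  have s1 := size_le h.locA hM hperm2 hk1 (by obtain ⟨k, hk⟩ := hk0; exact ⟨k, by rw [hk]; decide⟩)
  have hsum : n = Fintype.card {k : Fin n // (φ ∘ b) k = 0} + Fintype.card {k : Fin n // (φ ∘ b) k = 1} := by
    have h5 := Fintype.card_congr (Equiv.sigmaFiberEquiv (φ ∘ b))
    rw [Fintype.card_sigma, Fin.sum_univ_two, Fintype.card_fin] at h5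
    exact h5.symm
  omega

/-- **T5** -/
theorem frame_std [Fintype F] {π : SLL →* G} (h : Sit N A C A₁ C₁ A₂ C₂ r d) (hr : ¬ r ∣ Fintype.card F)
    (hn : 3 ≤ n) (hM : Model N (iSL n F) π) {b : Fin n → Fin t} (hA : Frame (iSL n F) π A (blk b)) : Nat.card ↥A ≤ M d := by
  classical
  have hne : ∀ i, ∃ k, b k = i := fun i => by
    by_contra hcon
    push Not at hcon
    apply hA.ne i
    ext k l
    rw [blk_apply, if_neg (hcon k), Matrix.zero_apply, ite_self]
  have hother : ∀ i, ∃ k, b k ≠ i := fun i => by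
    haveI : Nontrivial (Fin t) := Fin.nontrivial_iff_two_le.mpr hA.two
    obtain ⟨j, hj⟩ := exists_ne i
    obtain ⟨k, hk⟩ := hne j
    exact ⟨k, by rw [hk]; exact hj⟩
  have hsize := fun i => size_le h.locA hM hA.perm (hne i) (hother i)
  have hpos : ∀ i, 0 < Fintype.card {k : Fin n // b k = i} := fun i => by
    obtain ⟨k, hk⟩ := hne i
    exact Fintype.card_pos_iff.mpr ⟨⟨k, hk⟩⟩
  by_cases hall1 : ∀ i, Fintype.card {k : Fin n // b k = i} ≤ 1
  · -- frame of points
    have hinj : Function.Injective b := fun k l hkl =>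
      congrArg Subtype.val (Fintype.card_le_one_iff.mp (hall1 (b l)) ⟨k, hkl⟩ ⟨l, rfl⟩)
    let g : Fin n ≃ Fin t := Equiv.ofBijective b ⟨hinj, fun i => hne i⟩
    have hA' := frame_reindex hA g
    have he : (fun i => (blk b (g i) : MM)) = blk (id : Fin n → Fin n) := by
      funext i
      ext k l
      rw [blk_apply, blk_apply]
      change (if k = l then (if b k = b i then (1 : F) else 0) else 0) = _
      simp only [hinj.eq_iff, id_eq]
    rw [he] at hA'
    exact frame_points h hr hn hM hA'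
  · push Not at hall1
    obtain ⟨i₁, hi₁⟩ := hall1
    have hq : Fintype.card F ≤ 3 := by
      rcases hsize i₁ with h1 | h1
      · omega
      · rw [← Nat.card_eq_fintype_card]; exact h1.2
    have hs1 : Fintype.card {k : Fin n // b k = i₁} = 2 := by
      rcases hsize i₁ with h1 | h1
      · omega
      · exact h1.1
    by_cases hall2 : ∀ i, Fintype.card {k : Fin n // b k = i} = 2
    · obtain ⟨E, hE⟩ := exists_E hall2
      have he : (blk b : Fin t → MM) = bl E := by
        funext i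
        rw [bl, funext hE]
      rw [he] at hA
      exact frame_planes h hr hM E hA hq
    · push Not at hall2
      obtain ⟨i₀, hi₀⟩ := hall2
      have hs0 : Fintype.card {k : Fin n // b k = i₀} = 1 := by
        have := hpos i₀
        rcases hsize i₀ with h1 | h1
        · omega
        · exact absurd h1.1 hi₀
      exact frame_mixed h hM hA hs0 hs1 hq

/-- **T5**: the imprimitive type, linear case. -/
theorem frame_sl [Fintype F] {π : Matrix.SpecialLinearGroup (Fin n) F →* G} (h : Sit N A C A₁ C₁ A₂ C₂ r d)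
    (hr : ¬ r ∣ Fintype.card F) (hn : 3 ≤ n) (hM : Model N (iSL n F) π) {t : ℕ} {e : Fin t → Matrix (Fin n) (Fin n) F}
    (hA : Frame (iSL n F) π A e) : Nat.card A ≤ M d := by
  obtain ⟨P, b, hPb⟩ := exists_std hA.idem hA.orth hA.sum
  have he : e = fun i => cM P (blk b i) := funext hPb
  rw [he] at hA
  exact frame_std h hr hn (model_cS P hM) (frame_cS P hA)

end Cfsg.Agent.H599.TW
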