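import Cfsg.Agent.H599.TW.CentBl
import Cfsg.Agent.H599.TW.FrameConj
import Cfsg.Agent.H748.TW.CompSL

/-!
# S3694: the sizes of the blocks, linear case (helper599)
-/

set_option autoImplicit false
set_option linter.unusedSectionVars false
set_option linter.style.haveILetI false

namespace Cfsg.Agent.H599.TW

open Subgroup Cfsg.Agent.H607.TW

universe u

variable {F : Type} [Field F] {n : ℕ}

local notation "MM" => Matrix (Fin n) (Fin n) F
local notation "GLL" => Matrix.GeneralLinearGroup (Fin n) F
local notation "SLL" => Matrix.SpecialLinearGroup (Fin n) F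

variable {t : ℕ}

theorem blk_mul_blk (b : Fin n → Fin t) (i j : Fin t) (hij : i ≠ j) : (blk b i : MM) * blk b j = 0 := by
  ext a c
  rw [blk_mul, blk_apply, Matrix.zero_apply]
  split_ifs with h1 h2 h3
  · subst h2
    exact absurd (h1.symm.trans h3) hij
  · rfl
  · rfl
  · rfl

theorem blk_idem (b : Fin n → Fin t) (i : Fin t) : (blk b i : MM) * blk b i = blk b i := by
  ext a c
  rw [blk_mul, blk_apply]
  split_ifs <;> rfl

theorem sum_blk (b : Fin n → Fin t) : ∑ i, (blk b i : MM) = 1 := by
  ext a c
  rw [Matrix.sum_apply]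
  simp only [blk_apply]
  by_cases h : a = c
  · subst h; simp
  · simp [h]

/-- the rectangular matrix of the `i`-th block -/
noncomputable def UU (F : Type) [Field F] {n : ℕ} (b : Fin n → Fin t) (i : Fin t) :
    Matrix (Fin n) (Fin (Fintype.card {k : Fin n // b k = i})) F :=
  Matrix.of fun k a => if k = ((Fintype.equivFin {k : Fin n // b k = i}).symm a : Fin n) then 1 else 0

theorem UT_U (b : Fin n → Fin t) (i : Fin t) : (UU F b i).transpose * UU F b i = 1 := by
  ext a c
  rw [Matrix.mul_apply, Finset.sum_eq_single (((Fintype.equivFin {k : Fin n // b k = i}).symm a : Fin n))]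
  · rw [Matrix.transpose_apply]
    change (if _ then (1 : F) else 0) * (if _ then (1 : F) else 0) = _
    rw [if_pos rfl, one_mul, Matrix.one_apply]
    congr 1
    rw [eq_iff_iff]
    constructor
    · intro h
      exact (Fintype.equivFin {k : Fin n // b k = i}).symm.injective (Subtype.ext h)
    · intro h
      rw [h]
  · intro k _ hk
    rw [Matrix.transpose_apply]
    change (if _ then (1 : F) else 0) * _ = _
    rw [if_neg hk, zero_mul]
  · intro h; exact absurd (Finset.mem_univ _) h

theorem U_UT (b : Fin n → Fin t) (i : Fin t) : UU F b i * (UU F b i).transpose = blk b i := by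
  ext k l
  rw [Matrix.mul_apply, blk_apply]
  simp only [Matrix.transpose_apply]
  change ∑ a, (if k = ((Fintype.equivFin {k : Fin n // b k = i}).symm a : Fin n) then (1 : F) else 0) *
    (if l = ((Fintype.equivFin {k : Fin n // b k = i}).symm a : Fin n) then (1 : F) else 0) = _
  by_cases hkl : k = l
  · subst hkl
    rw [if_pos rfl]
    by_cases hk : b k = i
    · rw [if_pos hk, Finset.sum_eq_single (Fintype.equivFin {k : Fin n // b k = i} ⟨k, hk⟩)]
      · simp
      · intro a _ ha
        rw [if_neg, zero_mul]
        intro h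
        apply ha
        have h3 := congrArg (Fintype.equivFin {k : Fin n // b k = i}) (Subtype.ext h :
          (⟨k, hk⟩ : {k : Fin n // b k = i}) = (Fintype.equivFin {k : Fin n // b k = i}).symm a)
        rw [Equiv.apply_symm_apply] at h3
        exact h3.symm
      · intro h; exact absurd (Finset.mem_univ _) h
    · rw [if_neg hk]
      apply Finset.sum_eq_zero
      intro a _
      rw [if_neg, zero_mul]
      intro h
      apply hk
      rw [h]
      exact ((Fintype.equivFin {k : Fin n // b k = i}).symm a).2
  · rw [if_neg hkl]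
    apply Finset.sum_eq_zero
    intro a _
    by_cases h1 : k = ((Fintype.equivFin {k : Fin n // b k = i}).symm a : Fin n)
    · rw [if_pos h1, if_neg (fun h2 => hkl (h1.trans h2.symm)), mul_zero]
    · rw [if_neg h1, zero_mul]

/-- the embedding of the `i`-th factor -/
noncomputable def phi (b : Fin n → Fin t) (i : Fin t) :
    Matrix (Fin (Fintype.card {k : Fin n // b k = i})) (Fin (Fintype.card {k : Fin n // b k = i})) F →ₙ+* MM where
  toFun m := UU F b i * m * (UU F b i).transpose
  map_mul' m m' := by
    have h1 : UU F b i * (m * m') * (UU F b i).transpose =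
        UU F b i * m * (1 : Matrix (Fin (Fintype.card {k : Fin n // b k = i})) (Fin (Fintype.card {k : Fin n // b k = i})) F) *
          m' * (UU F b i).transpose := by
      simp only [Matrix.mul_one, Matrix.mul_assoc]
    rw [h1, ← UT_U b i]
    simp only [Matrix.mul_assoc]
  map_zero' := by rw [Matrix.mul_zero, Matrix.zero_mul]
  map_add' m m' := by rw [Matrix.mul_add, Matrix.add_mul]

theorem phi_apply (b : Fin n → Fin t) (i : Fin t)
    (m : Matrix (Fin (Fintype.card {k : Fin n // b k = i})) (Fin (Fintype.card {k : Fin n // b k = i})) F) :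
    phi b i m = UU F b i * m * (UU F b i).transpose := rfl

theorem phi_one (b : Fin n → Fin t) (i : Fin t) : (phi b i 1 : MM) = blk b i := by
  rw [phi_apply, Matrix.mul_one, U_UT]

theorem phi_inj (b : Fin n → Fin t) (i : Fin t) : Function.Injective (phi (F := F) b i) := by
  intro m m' h
  rw [phi_apply, phi_apply] at h
  have h1 : ∀ m : Matrix (Fin (Fintype.card {k : Fin n // b k = i})) (Fin (Fintype.card {k : Fin n // b k = i})) F,
      (UU F b i).transpose * (UU F b i * m * (UU F b i).transpose) * UU F b i = m := fun m => by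
    calc _ = ((UU F b i).transpose * UU F b i) * m * ((UU F b i).transpose * UU F b i) := by simp only [Matrix.mul_assoc]
      _ = m := by rw [UT_U, Matrix.one_mul, Matrix.mul_one]
  rw [← h1 m, h, h1]

variable {G : Type u} [Group G] [Finite G] [Fintype F] {N A : Subgroup G} {r : ℕ}

/-- the commutant of the idempotents -/
def EE (F : Type) [Field F] {n : ℕ} (b : Fin n → Fin t) : Subalgebra F (Matrix (Fin n) (Fin n) F) :=
  Subalgebra.centralizer F (Set.range (blk (F := F) b))

theorem mem_EE {b : Fin n → Fin t} {x : MM} : x ∈ EE F b ↔ ∀ i, blk b i * x = x * blk b i := by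
  rw [EE, Subalgebra.mem_centralizer_iff]
  constructor
  · intro h i; exact h _ ⟨i, rfl⟩
  · rintro h _ ⟨i, rfl⟩; exact h i

/-- The size of a block is at most two. -/
theorem size_le (hL : Loc N A r) {π : SLL →* G} (hM : Model N (iSL n F) π) {b : Fin n → Fin t}
    (hperm : ∀ a ∈ A, ∀ τ, Ind (iSL n F) π a τ → ∀ i, ∃ j, τ (blk b i) = blk b j) {i : Fin t} (h1 : ∃ k, b k = i) (h2 : ∃ k, b k ≠ i) :
    Fintype.card {k : Fin n // b k = i} ≤ 1 ∨ (Fintype.card {k : Fin n // b k = i} = 2 ∧ Nat.card F ≤ 3) := by
  classical
  have hInv : Inv (iSL n F) π A (EE F b) := by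
    intro a ha τ hτ x hx
    rw [mem_EE] at hx ⊢
    intro i
    -- `blk b i` is the image of some `blk b j`
    obtain ⟨j, hj⟩ := hperm a⁻¹ (A.inv_mem ha) _ (Ind.symm' hM hτ) i
    have hj' : blk b i = τ (blk b j) := by rw [← hj, AddEquiv.apply_symm_apply]
    rw [hj']
    rcases hτ with ⟨m, _⟩ | ⟨m, _⟩
    · rw [← m, ← m, hx j]
    · rw [← m, ← m, hx j]
  have hne : EE F b ≠ ⊤ := by
    intro h
    obtain ⟨k, hk⟩ := h1
    obtain ⟨l, hl⟩ := h2
    have h3 : (Matrix.single k l (1 : F) : MM) ∈ EE F b := by rw [h]; exact Algebra.mem_top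
    rw [mem_EE] at h3
    have h4 := congrFun (congrFun (h3 i) k) l
    rw [blk_mul, mul_blk, if_pos hk, if_neg hl, Matrix.single_apply_same] at h4
    exact one_ne_zero h4
  have key := Cfsg.Agent.H748.TW.comp_sl hL hM (EE F b) hInv hne F (Fintype.card {k : Fin n // b k = i}) (phi b i) (phi_inj b i)
    (fun x => ?_) (fun x hx => ?_)
  · rcases key with h | h
    · exact Or.inl h
    · exact Or.inr ⟨h.1, h.2.2⟩
  · constructor
    · rintro ⟨m, rfl⟩
      have e1 : blk b i * phi b i m = phi b i m := by rw [← phi_one, ← map_mul, one_mul]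
      have e2 : phi b i m * blk b i = phi b i m := by rw [← phi_one, ← map_mul, mul_one]
      refine ⟨?_, by rw [phi_one, e1]⟩
      rw [mem_EE]
      intro j
      by_cases hj : j = i
      · rw [hj, e1, e2]
      · have l1 : blk b j * phi b i m = 0 := by rw [← e1, ← mul_assoc, blk_mul_blk b j i hj, zero_mul]
        have l2 : phi b i m * blk b j = 0 := by rw [← e2, mul_assoc, blk_mul_blk b i j (Ne.symm hj), mul_zero]
        rw [l1, l2]
    · rintro ⟨h3, h4⟩
      rw [phi_one] at h4
      rw [mem_EE] at h3
      refine ⟨(UU F b i).transpose * x * UU F b i, ?_⟩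
      rw [phi_apply]
      calc _ = (UU F b i * (UU F b i).transpose) * x * (UU F b i * (UU F b i).transpose) := by simp only [Matrix.mul_assoc]
        _ = x := by rw [U_UT, h4, ← h3, h4]
  · rw [phi_one]
    exact (mem_EE.mp hx) i

/-- commutativity of the `i`-th factor -/
def CP (e : MM) : Prop := ∀ x y : MM, (e * x * e) * (e * y * e) = (e * y * e) * (e * x * e)

theorem CP_map {e : MM} {τ : MM ≃+ MM} (hmul : (∀ x y, τ (x * y) = τ x * τ y) ∨ (∀ x y, τ (x * y) = τ y * τ x)) (h : CP e) :
    CP (τ e) := by
  intro x' y'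
  obtain ⟨x, rfl⟩ := τ.surjective x'
  obtain ⟨y, rfl⟩ := τ.surjective y'
  have h1 : ∀ z, τ (e * z * e) = τ e * τ z * τ e := fun z => by
    rcases hmul with m | m
    · rw [m, m]
    · rw [m, m, mul_assoc]
  rw [← h1, ← h1]
  rcases hmul with m | m
  · rw [← m, ← m, h x y]
  · rw [← m, ← m, h x y]

theorem CP_blk (b : Fin n → Fin t) (i : Fin t) : CP (blk b i : MM) ↔ Fintype.card {k : Fin n // b k = i} ≤ 1 := by
  classical
  constructor
  · intro h
    rw [Fintype.card_le_one_iff]
    rintro ⟨k, hk⟩ ⟨l, hl⟩
    by_contra hne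
    have hkl : k ≠ l := fun hh => hne (Subtype.ext hh)
    have h1 := h (Matrix.single k l 1) (Matrix.single l k 1)
    have e1 : (blk b i : MM) * Matrix.single k l 1 * blk b i = Matrix.single k l 1 := by
      ext a c
      rw [mul_blk, blk_mul, Matrix.single_apply]
      by_cases h : k = a ∧ l = c
      · obtain ⟨rfl, rfl⟩ := h
        rw [if_pos hl, if_pos hk]
      · rw [if_neg h]; simp
    have e2 : (blk b i : MM) * Matrix.single l k 1 * blk b i = Matrix.single l k 1 := by
      ext a c
      rw [mul_blk, blk_mul, Matrix.single_apply]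
      by_cases h : l = a ∧ k = c
      · obtain ⟨rfl, rfl⟩ := h
        rw [if_pos hk, if_pos hl]
      · rw [if_neg h]; simp
    rw [e1, e2, Matrix.single_mul_single_same, Matrix.single_mul_single_same] at h1
    have h2 := congrFun (congrFun h1 k) k
    rw [Matrix.single_apply_same, Matrix.single_apply, if_neg (fun hh => hkl hh.1.symm), mul_one] at h2
    exact one_ne_zero h2
  · intro h x y
    have h1 : ∀ x : MM, ∀ k l, (blk b i * x * blk b i : MM) k l ≠ 0 → k = l ∧ b k = i := fun x k l hne => by
      rw [mul_blk, blk_mul] at hne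
      by_cases hl : b l = i
      · rw [if_pos hl] at hne
        by_cases hk : b k = i
        · have := Fintype.card_le_one_iff.mp h ⟨k, hk⟩ ⟨l, hl⟩
          exact ⟨congrArg Subtype.val this, hk⟩
        · rw [if_neg hk] at hne; exact absurd rfl hne
      · rw [if_neg hl] at hne; exact absurd rfl hne
    have h2 : ∀ x : MM, ∀ k l, k ≠ l → (blk b i * x * blk b i : MM) k l = 0 := fun x k l hkl => by
      by_contra hne
      exact hkl (h1 x k l hne).1
    ext k l
    rw [Matrix.mul_apply, Matrix.mul_apply]
    by_cases hkl : k = l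
    · subst hkl
      rw [Finset.sum_eq_single k (fun m _ hm => by rw [h2 x k m hm.symm, zero_mul]) (fun hh => absurd (Finset.mem_univ _) hh),
        Finset.sum_eq_single k (fun m _ hm => by rw [h2 y k m hm.symm, zero_mul]) (fun hh => absurd (Finset.mem_univ _) hh), mul_comm]
    · rw [Finset.sum_eq_zero, Finset.sum_eq_zero]
      · intro m _
        by_cases hm : k = m
        · subst hm; rw [h2 x k l hkl, mul_zero]
        · rw [h2 y k m hm, zero_mul]
      · intro m _
        by_cases hm : k = m
        · subst hm; rw [h2 y k l hkl, mul_zero]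
        · rw [h2 x k m hm, zero_mul]

end Cfsg.Agent.H599.TW
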